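import Cfsg.Agent.OddPre.NoSCN.SelfCentral
import Cfsg.Agent.OddPre.NoSCN.SevenPoints
import Cfsg.Agent.Recog.SymplecticCore
import Cfsg.Agent.PGroup.InvolutionCount
import Cfsg.Agent.PGroup.SquareMap
import Cfsg.Agent.S4189

/-!
The case in which all invariant normal abelian subgroups are central.
-/

set_option autoImplicit false

namespace Cfsg.Agent.OddPre.NoSCN

open scoped commutatorElement

variable {X : Type*} [Group X] [Finite X]

/-- The conclusion of the classification. -/
def Concl (X : Type*) [Group X] : Prop :=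
  Nonempty (X ≃* QuaternionGroup 2) ∨
    (Cfsg.IsSpecial 2 X ∧ Nat.card X = 64 ∧ Nat.card {x : X // orderOf x = 2} = 3 ∧
      ∀ x : X, orderOf x = 2 → x ∈ Subgroup.center X) ∨
    (Cfsg.IsExtraspecial 2 X ∧ Nat.card X = 32 ∧ Nat.card {x : X // orderOf x = 2} = 11)

theorem card_involutions (X : Type*) [Group X] [Finite X] :
    Nat.card {x : X // orderOf x = 2} + 1 = Nat.card {x : X // x ^ 2 = 1} := by
  classical
  haveI : Fintype X := Fintype.ofFinite _
  rw [Nat.card_eq_fintype_card, Nat.card_eq_fintype_card, Fintype.card_subtype, Fintype.card_subtype]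
  have : (Finset.univ.filter fun x : X => x ^ 2 = 1) =
      insert 1 (Finset.univ.filter fun x : X => orderOf x = 2) := by
    ext x
    simp only [Finset.mem_filter, Finset.mem_univ, true_and, Finset.mem_insert]
    constructor
    · intro h
      by_cases h1 : x = 1
      · exact Or.inl h1
      · exact Or.inr (orderOf_eq_prime h h1)
    · rintro (rfl | h)
      · simp
      · rw [← h]; exact pow_orderOf_eq_one x
  rw [this, Finset.card_insert_of_notMem (by simp)]

/-- Three involutions: the finish for groups of order 64. -/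
theorem concl_sixty_four (hX : IsPGroup 2 X) (hcard : Nat.card X = 64)
    (hZ2 : ∀ z ∈ Subgroup.center X, z * z = 1) (hZ4 : Nat.card (Subgroup.center X) = 4)
    (hcom : commutator X = Subgroup.center X) (hsq : ∀ y : X, y * y ∈ Subgroup.center X)
    (hinv : ∀ t : X, t * t = 1 → t ∈ Subgroup.center X) : Concl X := by
  haveI : Fact (Nat.Prime 2) := ⟨Nat.prime_two⟩
  refine Or.inr (Or.inl ⟨⟨hX, le_antisymm ?_ ?_, hcom⟩, hcard, ?_, fun x hx => hinv x ?_⟩)
  · exact PGroup.frattini_le_of_commutator_le_of_pow_mem Nat.prime_two hcom.le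
      fun x => by rw [pow_two]; exact hsq x
  · rw [← hcom]; exact PGroup.commutator_le_frattini hX
  · have h := card_involutions X
    have : Nat.card {x : X // x ^ 2 = 1} = Nat.card (Subgroup.center X) :=
      Nat.card_congr
        { toFun := fun x => ⟨x.1, hinv _ (by rw [← pow_two]; exact x.2)⟩
          invFun := fun x => ⟨x.1, by rw [pow_two]; exact hZ2 _ x.2⟩
          left_inv := fun _ => rfl
          right_inv := fun _ => rfl }
    omega
  · rw [← pow_two, ← hx]; exact pow_orderOf_eq_one x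

theorem concl_extraspecial (hX : IsPGroup 2 X) (hno : NoEight X) (hXns : ¬ IsMulCommutative X)
    (A : Subgroup (MulAut X)) (hA : Odd (Nat.card A))
    (hXA : Subgroup.closure {g : X | ∃ φ ∈ A, ∃ x : X, g = x⁻¹ * φ x} = ⊤)
    (hE : Cfsg.IsExtraspecial 2 X) : Concl X := by
  haveI : Fact (Nat.Prime 2) := ⟨Nat.prime_two⟩
  have hW : ∀ W : Subgroup X, Cfsg.IsElementaryAbelian 2 W → Nat.card W ≤ 4 := by
    intro W hW
    have hZ : Cfsg.IsElementaryAbelian 2 (Subgroup.center X) := PGroup.center_elemAb hE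
    let V : Subgroup X := Subgroup.center X ⊔ W
    have hmem : ∀ g ∈ V, ∃ z ∈ Subgroup.center X, ∃ w ∈ W, z * w = g := fun g hg =>
      Subgroup.mem_sup_of_normal_left.1 hg
    have hVa : Cfsg.IsElementaryAbelian 2 V := by
      have hc : ∀ a ∈ V, ∀ b ∈ V, a * b = b * a := by
        intro a ha b hb
        obtain ⟨z, hz, w, hw, rfl⟩ := hmem a ha
        obtain ⟨z', hz', w', hw', rfl⟩ := hmem b hb
        have h1 : Commute w w' :=
          congrArg (fun x : W => (x : X)) (hW.1.is_comm.comm ⟨w, hw⟩ ⟨w', hw'⟩)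
        have hz1 : ∀ g, Commute z g := fun g => (Subgroup.mem_center_iff.1 hz g).symm
        have hz2 : ∀ g, Commute z' g := fun g => (Subgroup.mem_center_iff.1 hz' g).symm
        exact ((hz1 _).mul_left ((hz2 w).symm.mul_right h1)).eq
      refine ⟨⟨⟨fun a b => Subtype.ext (hc _ a.2 _ b.2)⟩⟩, fun a ha => ?_⟩
      obtain ⟨z, hz, w, hw, rfl⟩ := hmem a ha
      rw [(Commute.symm (Subgroup.mem_center_iff.1 hz w)).mul_pow, hZ.2 z hz, hW.2 w hw, one_mul]
    have hVn : V.Normal := ⟨fun v hv g => by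
      have e : g * v * g⁻¹ = ⁅g, v⁆ * v := by simp [commutatorElement_def]
      rw [e]
      exact mul_mem (Subgroup.mem_sup_left (PGroup.special_commutatorElement_mem hE.1 g v)) hv⟩
    exact (Subgroup.card_le_of_le (le_sup_right : W ≤ V)).trans (hno V hVn hVa)
  obtain ⟨W, hWe, hle⟩ := PGroup.exists_elemAb_large _ X hE rfl
  have h32 : Nat.card X ≤ 32 := hle.trans (by
    calc 2 * Nat.card W ^ 2 ≤ 2 * 4 ^ 2 := Nat.mul_le_mul_left _ (Nat.pow_le_pow_left (hW W hWe) 2)
      _ = 32 := by norm_num)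
  obtain ⟨m, hm, hcm, -, hminus⟩ := PGroup.invCount_eq _ X hE rfl
  have hm2 : m ≤ 2 := by
    by_contra h
    have : 2 ^ 7 ≤ 2 ^ (2 * m + 1) := Nat.pow_le_pow_right (by norm_num) (by omega)
    omega
  interval_cases m
  · left
    refine S4189.result hX hXns ?_ ?_
    · rw [hE.1.2.2]
      have := Subgroup.card_mul_index (Subgroup.center X)
      rw [hE.2, hcm] at this
      omega
    · intro hp
      obtain ⟨k, hk⟩ := (hp.to_subgroup A).exists_card_eq
      have hA1 : A = ⊥ := by
        rw [← Subgroup.card_eq_one, hk]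
        rcases Nat.eq_zero_or_pos k with rfl | hk0
        · rfl
        · exfalso
          rw [hk] at hA
          exact (Nat.not_even_iff_odd.2 hA) (Nat.even_pow.2 ⟨even_two, hk0.ne'⟩)
      apply hXns
      have htop : (⊤ : Subgroup X) ≤ ⊥ := by
        rw [← hXA, Subgroup.closure_le]
        rintro _ ⟨φ, hφ, x, rfl⟩
        rw [hA1, Subgroup.mem_bot] at hφ
        simp [hφ]
      exact ⟨⟨fun a b => by
        rw [Subgroup.mem_bot.1 (htop (Subgroup.mem_top a)),
          Subgroup.mem_bot.1 (htop (Subgroup.mem_top b))]⟩⟩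
  · right; right
    refine ⟨hE, by rw [hcm]; norm_num, ?_⟩
    have hnp : ¬ PGroup.IsPlusTwo X := by
      rintro ⟨W', hW', h⟩
      have := Nat.pow_le_pow_left (hW W' hW') 2
      rw [hcm] at h
      omega
    have hic : Nat.card {x : X // x ^ 2 = 1} = 12 := by
      have := hminus hnp
      simpa [PGroup.invCount] using this
    have := card_involutions X
    omega

theorem central_case (hX : IsPGroup 2 X) (hno : NoEight X) (hna : ¬ IsMulCommutative X)
    (A : Subgroup (MulAut X)) (hA : Odd (Nat.card A))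
    (hXA : Subgroup.closure {g : X | ∃ φ ∈ A, ∃ x : X, g = x⁻¹ * φ x} = ⊤)
    (hall : ∀ B : Subgroup X, B.Normal → (∀ a ∈ B, ∀ b ∈ B, a * b = b * a) →
      (∀ φ ∈ A, ∀ b ∈ B, φ b ∈ B) → B ≤ Subgroup.center X) : Concl X := by
  classical
  haveI : Fact (Nat.Prime 2) := ⟨Nat.prime_two⟩
  obtain ⟨hcl, hc2, hsq'⟩ := Recog.SympCore.classTwo_of_char_abelian_central hX (fun B hB hBc =>
    hall B inferInstance (fun a ha b hb => congrArg (fun x : B => (x : X)) (hBc.is_comm.comm ⟨a, ha⟩ ⟨b, hb⟩))
      (fun φ _ b hb => by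
        have := hB.fixed φ
        rw [← this] at hb
        exact hb))
  obtain ⟨Z, hZdef⟩ : ∃ Z, Z = Subgroup.center X := ⟨_, rfl⟩
  have hZc : ∀ z ∈ Z, ∀ g : X, g * z = z * g := fun z hz => by
    rw [hZdef] at hz; exact Subgroup.mem_center_iff.1 hz
  haveI hZn : Z.Normal := hZdef ▸ inferInstance
  have hsq : ∀ y : X, y * y ∈ Z := fun y => by rw [hZdef, ← pow_two]; exact hsq' y
  have hZA : ∀ φ ∈ A, ∀ z ∈ Z, φ z ∈ Z := fun φ _ z hz => by
    rw [hZdef]
    refine Subgroup.mem_center_iff.2 fun g => ?_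
    rw [← φ.apply_symm_apply g, ← map_mul, ← map_mul, hZc z hz]
  have hDZ : commutator X ≤ Z := by
    rw [commutator_def, Subgroup.commutator_le, hZdef]; exact fun a _ b _ => hcl a b
  have hDA : ∀ φ ∈ A, ∀ d ∈ commutator X, φ d ∈ commutator X := fun φ _ d hd => by
    have := (inferInstance : (commutator X).Characteristic).fixed φ
    rw [← this] at hd
    exact hd
  have hD2 : ∀ d ∈ commutator X, d * d = 1 := by
    let S : Subgroup X :=
      { carrier := {z | z ∈ Z ∧ z * z = 1}
        one_mem' := ⟨one_mem _, mul_one 1⟩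
        inv_mem' := fun {b} hb => ⟨inv_mem hb.1, by rw [← mul_inv_rev, hb.2, inv_one]⟩
        mul_mem' := fun {a b} ha hb => ⟨mul_mem ha.1 hb.1, by
          rw [(show Commute b a from hZc a ha.1 b).mul_mul_mul_comm, ha.2, hb.2, mul_one]⟩ }
    have : commutator X ≤ S := by
      rw [commutator_def, Subgroup.commutator_le]
      exact fun a _ b _ => ⟨hDZ (Subgroup.commutator_mem_commutator (Subgroup.mem_top a)
        (Subgroup.mem_top b)), by rw [← pow_two]; exact hc2 a b⟩
    exact fun d hd => (this hd).2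
  obtain ⟨a, c, hac⟩ : ∃ a c : X, ⁅a, c⁆ ≠ 1 := by
    by_contra h
    push Not at h
    exact hna ⟨⟨fun a b => commutatorElement_eq_one_iff_mul_comm.1 (h a b)⟩⟩
  have hd0 : ⁅a, c⁆ ∈ commutator X :=
    Subgroup.commutator_mem_commutator (Subgroup.mem_top a) (Subgroup.mem_top c)
  -- the centre is elementary
  have hZ2 : ∀ z ∈ Z, z * z = 1 := by
    by_cases hmove : ∃ φ ∈ A, ∃ z ∈ Z, φ z ≠ z
    · by_contra hne
      push Not at hne
      obtain ⟨z, hz, hz2⟩ := hne
      obtain ⟨U, τ, n, hτ, hF, -⟩ := exists_frame hX hno A hA Z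
        (fun x _ y hy => hZc y hy x) hZA hmove ⟨z, hz, Or.inr hz2⟩
      exact hac (commutatorElement_eq_one_iff_mul_comm.2
        (hF.comm_of_extension hno ⊤ (fun x _ b hb => hZc b hb x)
          (fun x _ y => hDZ (Subgroup.commutator_mem_commutator (Subgroup.mem_top y) (Subgroup.mem_top x)))
          (fun x _ => hsq x) (fun x _ => Subgroup.mem_top _) a (Subgroup.mem_top a) c (Subgroup.mem_top c)))
    · push Not at hmove
      intro z hz
      refine hD2 z (mem_of_fix_mod hX A hA hXA (commutator X) le_rfl z fun φ hφ => ?_)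
      rw [hmove φ hφ z hz, inv_mul_cancel]; exact one_mem _
  have hZea : Cfsg.IsElementaryAbelian 2 Z :=
    ⟨⟨⟨fun x y => Subtype.ext (hZc _ y.2 _)⟩⟩, fun z hz => by rw [pow_two]; exact hZ2 z hz⟩
  have hZle := hno Z hZn hZea
  have hDeq : commutator X = Z := by
    refine le_antisymm hDZ ?_
    by_cases hmove : ∃ φ ∈ A, ∃ z ∈ Z, φ z ≠ z
    · obtain ⟨φ, hφ, z, hz, hφz⟩ := hmove
      have hm : φ ^ Nat.card A = 1 :=
        congrArg Subtype.val (pow_card_eq_one' (x := (⟨φ, hφ⟩ : A)))
      have hz1 : z ≠ 1 := fun e => hφz (by rw [e, map_one])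
      have hφz1 : φ z ≠ 1 := fun e => hz1 (φ.injective (e.trans (map_one φ).symm))
      have hZ4 : Nat.card Z = 4 := by
        obtain ⟨k, hk⟩ := (hX.to_subgroup Z).exists_card_eq
        haveI : Fintype Z := Fintype.ofFinite _
        have h3 : ({1, ⟨z, hz⟩, ⟨φ z, hZA φ hφ z hz⟩} : Finset Z).card = 3 := by
          simp [Subtype.ext_iff, hz1.symm, hφz1.symm, hφz.symm]
        have := Finset.card_le_univ ({1, ⟨z, hz⟩, ⟨φ z, hZA φ hφ z hz⟩} : Finset Z)
        rw [h3, ← Nat.card_eq_fintype_card] at this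
        have hk2 : k = 2 := by
          rcases k with _ | _ | _ | k
          · rw [hk, pow_zero] at this; omega
          · rw [hk, zero_add, pow_one] at this; omega
          · rfl
          · have : 2 ^ 3 ≤ 2 ^ (k + 1 + 1 + 1) := Nat.pow_le_pow_right (by norm_num) (by omega)
            omega
        rw [hk, hk2]; norm_num
      have hd := ((four_cases Z hZ2 hZ4 φ hA hm (hZA φ hφ)).resolve_left
        fun e => hφz (e z hz)) ⁅a, c⁆ (hDZ hd0) hac
      intro v hv
      rcases hd.2.2.2 v hv with e | e | e | e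
      · exact e ▸ one_mem _
      · exact e ▸ hd0
      · exact e ▸ hDA φ hφ _ hd0
      · exact e ▸ hDA φ hφ _ (hDA φ hφ _ hd0)
    · push Not at hmove
      intro z hz
      refine mem_of_fix_mod hX A hA hXA (commutator X) le_rfl z fun φ hφ => ?_
      rw [hmove φ hφ z hz, inv_mul_cancel]; exact one_mem _
  have hΦ : frattini X = Z :=
    le_antisymm (PGroup.frattini_le_of_commutator_le_of_pow_mem Nat.prime_two hDeq.le
      fun x => by rw [pow_two]; exact hsq x) (hDeq ▸ PGroup.commutator_le_frattini hX)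
  obtain ⟨k, hk⟩ := (hX.to_subgroup Z).exists_card_eq
  have hk2 : k ≤ 2 := by
    by_contra h
    have : 2 ^ 3 ≤ 2 ^ k := Nat.pow_le_pow_right (by norm_num) (by omega)
    omega
  interval_cases k
  · exfalso
    rw [pow_zero, Subgroup.card_eq_one] at hk
    have := hDZ hd0
    rw [hk, Subgroup.mem_bot] at this
    exact hac this
  · rw [hZdef] at hΦ hk hDeq
    exact concl_extraspecial hX hno hna A hA hXA ⟨⟨hX, hΦ, hDeq⟩, by rw [hk]; norm_num⟩
  · have hk4 : Nat.card Z = 4 := by rw [hk]; norm_num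
    have hinv : ∀ t : X, t * t = 1 → t ∈ Z := fun t ht =>
      mem_of_conj hno Z hZdef.le hZ2 hk4 ht fun y => by
        have e : t⁻¹ * (y * t * y⁻¹) = ⁅t⁻¹, y⁆ := by simp only [commutatorElement_def]; group
        rw [e]
        exact hDZ (Subgroup.commutator_mem_commutator (Subgroup.mem_top _) (Subgroup.mem_top _))
    -- the quotient has order at most 16
    have hle16 : Nat.card (X ⧸ Z) ≤ 16 := by
      by_contra hgt
      letI : CommGroup Z :=
        { (inferInstance : Group Z) with mul_comm := fun x y => Subtype.ext (hZc _ y.2 _) }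
      obtain ⟨x, -, hx, hπ⟩ := PGroup.exists_sq_zero hX (M := Z) hZdef.le
        (fun m hm => by rw [pow_two]; exact hZ2 m hm) (fun x => by rw [pow_two]; exact hsq x)
        (fun x y => hDZ (Subgroup.commutator_mem_commutator (Subgroup.mem_top x) (Subgroup.mem_top y)))
        (⊤ : Subgroup (X ⧸ Z)) (W := Z) (fun w => Subtype.ext (by
          rw [SubmonoidClass.coe_pow, pow_two, OneMemClass.coe_one]; exact hZ2 _ w.2))
        (MonoidHom.id Z) (by rw [hk4, Subgroup.card_top]; omega)
      refine hx (hinv x ?_)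
      have := congrArg Subtype.val hπ
      rw [← pow_two]
      exact this
    obtain ⟨j, hj⟩ := (hX.to_quotient Z).exists_card_eq
    have hj4 : j ≤ 4 := by
      by_contra h
      have : 2 ^ 5 ≤ 2 ^ j := Nat.pow_le_pow_right (by norm_num) (by omega)
      omega
    have hmid : ∀ u v : X, ⁅u, v⁆ ∈ Z := fun u v =>
      hDZ (Subgroup.commutator_mem_commutator (Subgroup.mem_top u) (Subgroup.mem_top v))
    have hmid' : ∀ u v : X, ⁅u, v⁆ ∈ Subgroup.center X := hcl
    have hsmall : ¬ Nat.card (X ⧸ Z) ≤ 4 := by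
      intro h4
      haveI : Fintype (X ⧸ Z) := Fintype.ofFinite _
      have hZX : ∀ z ∈ Z, ∀ g : X, ⁅g, z⁆ = 1 ∧ ⁅z, g⁆ = 1 := fun z hz g =>
        ⟨commutatorElement_eq_one_iff_mul_comm.2 (hZc z hz g),
          commutatorElement_eq_one_iff_mul_comm.2 (hZc z hz g).symm⟩
      have haZ : a ∉ Z := fun h => hac (hZX a h c).2
      have hcZ : c ∉ Z := fun h => hac (hZX c h a).1
      have hacne : (a : X ⧸ Z) ≠ (c : X ⧸ Z) := fun h => hac (by
        have h' : a⁻¹ * c ∈ Z := QuotientGroup.eq.1 h
        have e : ⁅a, c⁆ = a * ⁅a, a⁻¹ * c⁆ * a⁻¹ := by simp only [commutatorElement_def]; group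
        rw [e, (hZX _ h' a).1, mul_one, mul_inv_cancel])
      have ha1 : (a : X ⧸ Z) ≠ 1 := fun e => haZ ((QuotientGroup.eq_one_iff a).1 e)
      have hc1 : (c : X ⧸ Z) ≠ 1 := fun e => hcZ ((QuotientGroup.eq_one_iff c).1 e)
      have hq2 : (a : X ⧸ Z) * (a : X ⧸ Z) = 1 := (QuotientGroup.eq_one_iff _).2 (hsq a)
      have h31 : (a : X ⧸ Z) * (c : X ⧸ Z) ≠ 1 := fun e => hacne (mul_left_cancel (e.trans hq2.symm)).symm
      have h3a : (a : X ⧸ Z) * (c : X ⧸ Z) ≠ a := fun e => hc1 (mul_eq_left.1 e)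
      have h3c : (a : X ⧸ Z) * (c : X ⧸ Z) ≠ c := fun e => ha1 (mul_eq_right.1 e)
      have hs : ({1, (a : X ⧸ Z), (c : X ⧸ Z), (a : X ⧸ Z) * (c : X ⧸ Z)} : Finset (X ⧸ Z)) = Finset.univ := by
        apply Finset.eq_univ_of_card
        refine le_antisymm (Finset.card_le_univ _) ?_
        rw [← Nat.card_eq_fintype_card]
        refine h4.trans (le_of_eq ?_)
        simp [ha1.symm, hc1.symm, h31.symm, hacne, h3a.symm, h3c.symm]
      have hdec : ∀ g : X, ∃ w ∈ ({1, a, c, a * c} : Set X), ∃ z ∈ Z, g = w * z := by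
        intro g
        have hg := Finset.mem_univ (g : X ⧸ Z)
        rw [← hs] at hg
        simp only [Finset.mem_insert, Finset.mem_singleton] at hg
        obtain ⟨w, hw, hgw⟩ : ∃ w ∈ ({1, a, c, a * c} : Set X), (w : X ⧸ Z) = g := by
          rcases hg with e | e | e | e
          · exact ⟨1, by simp, e.symm⟩
          · exact ⟨a, by simp, e.symm⟩
          · exact ⟨c, by simp, e.symm⟩
          · exact ⟨a * c, by simp, e.symm⟩
        exact ⟨w, hw, w⁻¹ * g, QuotientGroup.eq.1 hgw, by group⟩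
      have hd2 : ⁅a, c⁆ * ⁅a, c⁆ = 1 := hD2 _ hd0
      have hca : ⁅c, a⁆ = ⁅a, c⁆ := by
        rw [← commutatorElement_inv a c]; exact inv_eq_of_mul_eq_one_right hd2
      have hDle : commutator X ≤ Subgroup.zpowers ⁅a, c⁆ := by
        rw [commutator_def, Subgroup.commutator_le]
        intro g _ g' _
        obtain ⟨w, hw, z, hz, rfl⟩ := hdec g
        obtain ⟨w', hw', z', hz', rfl⟩ := hdec g'
        rw [PGroup.commutatorElement_mul_left (hmid' z _),
          PGroup.commutatorElement_mul_right (hmid' w z'), (hZX z hz _).2, (hZX z' hz' w).1, mul_one, mul_one]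
        have hm : ⁅a, c⁆ ∈ Subgroup.zpowers ⁅a, c⁆ := Subgroup.mem_zpowers _
        have hm1 : (1 : X) ∈ Subgroup.zpowers ⁅a, c⁆ := one_mem _
        simp only [Set.mem_insert_iff, Set.mem_singleton_iff] at hw hw'
        rcases hw with rfl | rfl | rfl | rfl <;> rcases hw' with rfl | rfl | rfl | rfl <;>
          simp only [PGroup.commutatorElement_mul_left (hmid' _ _), PGroup.commutatorElement_mul_right (hmid' _ _),
            commutatorElement_one_left, commutatorElement_one_right, commutatorElement_self, hca, hd2,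
            one_mul, mul_one, hm, hm1]
      have hc2' := Subgroup.card_le_of_le hDle
      rw [hDeq, hk4, Nat.card_zpowers, orderOf_eq_prime (by rw [pow_two]; exact hd2) hac] at hc2'
      omega
    have hj3 : j ≠ 3 := by
      intro hj3
      have hQ8 : Nat.card (X ⧸ Z) = 8 := by rw [hj, hj3]; norm_num
      have hφZ : ∀ φ : A, Z ≤ Z.comap (φ : MulAut X).toMonoidHom := fun φ z hz => hZA φ φ.2 z hz
      letI : MulAction A (X ⧸ Z) :=
        { smul := fun φ q => QuotientGroup.map Z Z (φ : MulAut X).toMonoidHom (hφZ φ) q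
          one_smul := fun q => QuotientGroup.induction_on q fun x => rfl
          mul_smul := fun φ ψ q => QuotientGroup.induction_on q fun x => rfl }
      haveI : Finite A := Finite.of_injective (fun f : A => ((f : MulAut X) : X → X))
        (DFunLike.coe_injective.comp Subtype.val_injective)
      have htrans := transitive_seven hA hQ8 (1 : X ⧸ Z) (fun φ => map_one (QuotientGroup.map Z Z _ (hφZ φ)))
        (fun q => QuotientGroup.induction_on q fun x hx => (QuotientGroup.eq_one_iff x).2
          (mem_of_fix_mod hX A hA hXA Z hDZ x fun φ hφ => QuotientGroup.eq.1 (hx ⟨φ, hφ⟩).symm))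
      -- the square map on the quotient
      let q : X ⧸ Z → X := fun v => v.out * v.out
      have hcongr : ∀ x y : X, (x : X ⧸ Z) = (y : X ⧸ Z) → x * x = y * y := fun x y e => by
        have h' : x⁻¹ * y ∈ Z := QuotientGroup.eq.1 e
        obtain ⟨z, hz⟩ : ∃ z, z = x⁻¹ * y := ⟨_, rfl⟩
        have hy : y = x * z := by rw [hz]; group
        rw [← hz] at h'
        rw [hy, (show Commute z x from (hZc z h' x).symm).mul_mul_mul_comm, hZ2 z h', mul_one]
      have hq : ∀ x : X, q (x : X ⧸ Z) = x * x := fun x => hcongr _ _ (QuotientGroup.out_eq' _)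
      have hqZ : ∀ v, q v ∈ Z := fun v => hsq _
      have hq1 : ∀ v, v ≠ 1 → q v ≠ 1 := fun v hv e => hv (by
        rw [← QuotientGroup.out_eq' v]
        exact (QuotientGroup.eq_one_iff _).2 (hinv _ e))
      have hqφ : ∀ (φ : A) (v : X ⧸ Z), q (φ • v) = (φ : MulAut X) (q v) := fun φ v =>
        QuotientGroup.induction_on v fun x => by
          show q (((φ : MulAut X) x : X) : X ⧸ Z) = (φ : MulAut X) (q (x : X ⧸ Z))
          rw [hq, hq, map_mul]
      haveI : Fintype (X ⧸ Z) := Fintype.ofFinite _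
      obtain ⟨v0, hv0⟩ : ∃ v : X ⧸ Z, v ≠ 1 :=
        ⟨(a : X ⧸ Z), fun e => hac (commutatorElement_eq_one_iff_mul_comm.2
          (hZc a ((QuotientGroup.eq_one_iff a).1 e) c).symm)⟩
      obtain ⟨z0, hz0⟩ : ∃ z0, z0 = q v0 := ⟨_, rfl⟩
      by_cases hmove : ∃ φ : A, ∃ z ∈ Z, (φ : MulAut X) z ≠ z
      · obtain ⟨φ, z, hz, hφz⟩ := hmove
        have hm : (φ : MulAut X) ^ Nat.card A = 1 :=
          congrArg Subtype.val (pow_card_eq_one' (x := φ))
        obtain ⟨hne, hcube, -, hall'⟩ := ((four_cases Z hZ2 hk4 _ hA hm (hZA _ φ.2)).resolve_left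
          fun e => hφz (e z hz)) z0 (hz0 ▸ hqZ v0) (hz0 ▸ hq1 v0 hv0)
        let F : X → Finset (X ⧸ Z) := fun z => Finset.univ.filter fun v => v ≠ 1 ∧ q v = z
        have hF : ∀ z, (F ((φ : MulAut X) z)).card = (F z).card := by
          intro z
          refine (Finset.card_bij (fun v _ => φ • v) ?_ ?_ ?_).symm
          · intro v hv
            simp only [F, Finset.mem_filter, Finset.mem_univ, true_and] at hv ⊢
            refine ⟨fun e => hv.1 (smul_left_cancel φ (e.trans
              (map_one (QuotientGroup.map Z Z _ (hφZ φ))).symm)), by rw [hqφ, hv.2]⟩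
          · intro v _ w _ e; exact smul_left_cancel φ e
          · intro w hw
            simp only [F, Finset.mem_filter, Finset.mem_univ, true_and] at hw
            refine ⟨φ⁻¹ • w, ?_, smul_inv_smul φ w⟩
            simp only [F, Finset.mem_filter, Finset.mem_univ, true_and]
            refine ⟨fun e => hw.1 ?_, (φ : MulAut X).injective ?_⟩
            · rw [← smul_inv_smul φ w, e]
              exact map_one (QuotientGroup.map Z Z _ (hφZ φ))
            · rw [← hqφ, smul_inv_smul, hw.2]
        obtain ⟨z1, hz1⟩ : ∃ z1, z1 = (φ : MulAut X) z0 := ⟨_, rfl⟩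
        obtain ⟨z2, hz2⟩ : ∃ z2, z2 = (φ : MulAut X) z1 := ⟨_, rfl⟩
        have hd01 : z0 ≠ z1 := by rw [hz1]; exact hne.symm
        have hd12 : z1 ≠ z2 := fun e => hd01 ((φ : MulAut X).injective (hz1.symm.trans (e.trans hz2)))
        have hd02 : z0 ≠ z2 := fun e => hne (by
          have hc' : (φ : MulAut X) ((φ : MulAut X) ((φ : MulAut X) z0)) = z0 := hcube
          rw [← hz1, ← hz2, ← e, ← hz1] at hc'
          rw [← hz1]; exact hc')
        have hunion : Finset.univ.erase (1 : X ⧸ Z) = F z0 ∪ F z1 ∪ F z2 := by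
          ext v
          simp only [Finset.mem_erase, Finset.mem_univ, and_true, Finset.mem_union, F, Finset.mem_filter,
            true_and]
          constructor
          · intro hv
            rcases hall' (q v) (hqZ v) with e | e | e | e
            · exact absurd e (hq1 v hv)
            · exact Or.inl (Or.inl ⟨hv, e⟩)
            · exact Or.inl (Or.inr ⟨hv, e.trans hz1.symm⟩)
            · exact Or.inr ⟨hv, e.trans (by rw [hz2, hz1])⟩
          · rintro ((h | h) | h) <;> exact h.1
        have hdisj : ∀ z z' : X, z ≠ z' → Disjoint (F z) (F z') := fun z z' hne => by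
          rw [Finset.disjoint_left]
          intro v h1 h2
          simp only [F, Finset.mem_filter, Finset.mem_univ, true_and] at h1 h2
          exact hne (h1.2.symm.trans h2.2)
        have h7 := congrArg Finset.card hunion
        rw [Finset.card_erase_of_mem (Finset.mem_univ _), Finset.card_univ, ← Nat.card_eq_fintype_card,
          hQ8, Finset.card_union_of_disjoint
            (Finset.disjoint_union_left.2 ⟨hdisj _ _ hd02, hdisj _ _ hd12⟩),
          Finset.card_union_of_disjoint (hdisj _ _ hd01), hz2, hF, hz1, hF] at h7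
        omega
      · push Not at hmove
        have hconst : ∀ v : X ⧸ Z, v ≠ 1 → q v = z0 := fun v hv => by
          obtain ⟨φ, rfl⟩ := htrans v0 v hv0 hv
          rw [hqφ, hmove φ _ (hqZ v0), hz0]
        have hz01 : z0 ≠ 1 := hz0 ▸ hq1 v0 hv0
        have hpair : ∀ x y : X, (x : X ⧸ Z) ≠ 1 → (y : X ⧸ Z) ≠ 1 → (y : X ⧸ Z) ≠ (x : X ⧸ Z) →
            ⁅y, x⁆ = z0 := by
          intro x y hx hy hxy
          have hxy1 : ((x * y : X) : X ⧸ Z) ≠ 1 := fun e => hxy (by
            have hxx : (x : X ⧸ Z) * (x : X ⧸ Z) = 1 := (QuotientGroup.eq_one_iff _).2 (hsq x)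
            rw [QuotientGroup.mk_mul] at e
            exact mul_left_cancel (e.trans hxx.symm))
          have e1 := hconst _ hxy1
          rw [hq] at e1
          have e2 := hconst _ hx
          rw [hq] at e2
          have e3 := hconst _ hy
          rw [hq] at e3
          have e : (x * y) * (x * y) = x * ⁅y, x⁆ * x⁻¹ * ((x * x) * (y * y)) := by
            simp only [commutatorElement_def]; group
          rw [e, hZc _ (hmid y x) x, mul_inv_cancel_right, e2, e3, hZ2 _ (hz0 ▸ hqZ v0), mul_one] at e1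
          exact e1
        -- three independent cosets
        obtain ⟨x, hx⟩ : ∃ x : X, (x : X ⧸ Z) = v0 := ⟨v0.out, QuotientGroup.out_eq' v0⟩
        have hx1 : (x : X ⧸ Z) ≠ 1 := hx.symm ▸ hv0
        obtain ⟨v1, hv1, hv10⟩ : ∃ v : X ⧸ Z, v ≠ 1 ∧ v ≠ (x : X ⧸ Z) := by
          by_contra h
          push Not at h
          have : Finset.univ ⊆ ({1, (x : X ⧸ Z)} : Finset (X ⧸ Z)) := fun v _ => by
            by_cases hv : v = 1
            · simp [hv]
            · simp [h v hv]
          have := (Finset.card_le_card this).trans Finset.card_le_two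
          rw [Finset.card_univ, ← Nat.card_eq_fintype_card, hQ8] at this
          omega
        obtain ⟨y, hy⟩ : ∃ y : X, (y : X ⧸ Z) = v1 := ⟨v1.out, QuotientGroup.out_eq' v1⟩
        have hy1 : (y : X ⧸ Z) ≠ 1 := hy.symm ▸ hv1
        have hyx : (y : X ⧸ Z) ≠ (x : X ⧸ Z) := hy.symm ▸ hv10
        obtain ⟨v2, hv2⟩ : ∃ v : X ⧸ Z, v ∉ ({1, (x : X ⧸ Z), (y : X ⧸ Z),
            (y : X ⧸ Z)⁻¹ * (x : X ⧸ Z)} : Finset (X ⧸ Z)) := by
          by_contra h
          push Not at h
          have h1 := Finset.card_le_card (fun v _ => h v : Finset.univ ⊆ _)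
          have h2 : ({1, (x : X ⧸ Z), (y : X ⧸ Z), (y : X ⧸ Z)⁻¹ * (x : X ⧸ Z)} :
              Finset (X ⧸ Z)).card ≤ 4 := Finset.card_le_four
          rw [Finset.card_univ, ← Nat.card_eq_fintype_card, hQ8] at h1
          omega
        simp only [Finset.mem_insert, Finset.mem_singleton, not_or] at hv2
        obtain ⟨n1, n2, n3, n4⟩ := hv2
        obtain ⟨z, hz⟩ : ∃ z : X, (z : X ⧸ Z) = v2 := ⟨v2.out, QuotientGroup.out_eq' v2⟩
        rw [← hz] at n1 n2 n3 n4
        have hyz1 : ((y * z : X) : X ⧸ Z) ≠ 1 := fun e => n3 (by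
          have hyy : (y : X ⧸ Z) * (y : X ⧸ Z) = 1 := (QuotientGroup.eq_one_iff _).2 (hsq y)
          rw [QuotientGroup.mk_mul] at e
          exact mul_left_cancel (e.trans hyy.symm))
        have hyzx : ((y * z : X) : X ⧸ Z) ≠ (x : X ⧸ Z) := fun e => n4 (by
          rw [← e, QuotientGroup.mk_mul, inv_mul_cancel_left])
        have e1 := hpair (y * z) x hyz1 hx1 hyzx.symm
        rw [PGroup.commutatorElement_mul_right (hmid' x z), hpair y x hy1 hx1 hyx.symm,
          hpair z x n1 hx1 (Ne.symm n2), hZ2 _ (hz0 ▸ hqZ v0)] at e1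
        exact hz01 e1.symm
    have hj : j = 4 := by
      rcases Nat.lt_or_ge j 3 with h | h
      · exfalso
        apply hsmall
        rw [hj]
        calc 2 ^ j ≤ 2 ^ 2 := Nat.pow_le_pow_right (by norm_num) (by omega)
          _ = 4 := rfl
      · omega
    have hcard : Nat.card X = 64 := by
      rw [Subgroup.card_eq_card_quotient_mul_card_subgroup Z, hk4, ‹Nat.card (X ⧸ Z) = _›, hj]
      norm_num
    rw [hZdef] at hDeq hsq hZ2 hk4 hinv
    exact concl_sixty_four hX hcard hZ2 hk4 hDeq hsq hinv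

end Cfsg.Agent.OddPre.NoSCN
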